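import Groth.Agent.Lib.Flat14.DimOne
import Groth.Agent.Lib.ModM1.Local
import Groth.Agent.Lib.RegLoc.Basic
import Groth.Agent.Lib.WeakAss18.Basic
import Groth.Agent.Lib.CurveCoh17.Integral
import Groth.Prelude.Def_Coh

/-!
# Flatness over regular integral schemes of dimension at most one and associated points
-/

set_option backward.isDefEq.respectTransparency.types false

universe u

open CategoryTheory AlgebraicGeometry IsLocalRing TopologicalSpace

namespace Groth.Agent.Flat14

variable {X Y : Scheme.{u}}

theorem germ_structure_eq_zero_iff {U : X.Opens} {y : X} (hy : y ∈ U) (t : Γ(X, U)) :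
    ((Coh.structureModule X).presheaf.germ U y hy t : (Coh.structureModule X).presheaf.stalk y) = 0 ↔
      X.presheaf.germ U y hy t = 0 := by
  constructor
  · intro h
    obtain ⟨W, hW, i, i', e⟩ :=
      (Coh.structureModule X).presheaf.germ_eq y hy hy t 0 (h.trans (map_zero _).symm)
    rw [map_zero] at e
    rw [← X.presheaf.germ_res_apply i y hW]
    exact (congrArg (X.presheaf.germ W y hW) (show X.presheaf.map i.op t = 0 from e)).trans (map_zero _)
  · intro h
    obtain ⟨W, hW, i, i', e⟩ := X.presheaf.germ_eq y hy hy t 0 (h.trans (map_zero _).symm)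
    rw [map_zero] at e
    rw [← (Coh.structureModule X).presheaf.germ_res_apply i y hW]
    exact (congrArg ((Coh.structureModule X).presheaf.germ W y hW)
      (show (Coh.structureModule X).presheaf.map i.op t = 0 from e)).trans (map_zero _)

variable [IsIntegral Y] [IsLocallyNoetherian X] (f : X ⟶ Y)

/-- Nonzero elements of the local rings of the base act regularly when associated points lie over
the generic point. -/
theorem regular_of_assPoints
    (h : ∀ x : X, Curv2.IsAssPoint (Coh.structureModule X) x → f x = genericPoint Y)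
    (x : X) (r : Y.presheaf.stalk (f x)) (hr : r ≠ 0) (z : X.presheaf.stalk x)
    (hrz : f.stalkMap x r * z = 0) : z = 0 := by
  by_contra hz
  obtain ⟨U, hxU, t, rfl⟩ := X.presheaf.exists_germ_eq z
  obtain ⟨V, hV, hxV, hVU⟩ := exists_isAffineOpen_mem_and_subset (X := X) (x := x) (U := U) hxU
  have hVU : V ≤ U := hVU
  rw [← X.presheaf.germ_res_apply (homOfLE hVU) x hxV] at hz hrz
  set t' := X.presheaf.map (homOfLE hVU).op t
  have : Coh.IsQCoh (Coh.structureModule X) := M1.isQCoh_structureModule X
  obtain ⟨y, hy, hyx, hass, hne⟩ := WA.exists_weakAss (F := Coh.structureModule X) hV hxV t'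
    (fun h0 => hz ((germ_structure_eq_zero_iff hxV t').1 h0))
  refine hne ((germ_structure_eq_zero_iff hy t').2 ?_)
  have hfy := h y ((WA.isAssPoint_iff y).2 hass)
  have hs : f y ⤳ f x := hyx.map f.continuous
  have hunit : IsUnit (Y.presheaf.stalkSpecializes hs r) := by
    have key : ∀ (e : Y) (he : e = genericPoint Y) (h : e ⤳ f x),
        IsUnit (Y.presheaf.stalkSpecializes h r) := by
      rintro e rfl h
      exact isUnit_iff_ne_zero.2 ((map_ne_zero_iff _
        (IsFractionRing.injective (Y.presheaf.stalk (f x)) Y.functionField)).2 hr)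
    exact key _ hfy hs
  have h0 := congrArg (X.presheaf.stalkSpecializes hyx) hrz
  rw [map_mul, map_zero, ← f.stalkSpecializes_stalkMap_apply y x hyx,
    TopCat.Presheaf.germ_stalkSpecializes_apply] at h0
  exact (hunit.map (f.stalkMap y).hom).mul_right_eq_zero.1 h0

omit [IsLocallyNoetherian X] in
/-- Associated points of a flat scheme lie over the generic point. -/
theorem map_assPoint_eq_genericPoint [Flat f] (x : X)
    (hx : Curv2.IsAssPoint (Coh.structureModule X) x) : f x = genericPoint Y := by
  by_contra hne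
  obtain ⟨r, hr0, hrm⟩ : ∃ r : Y.presheaf.stalk (f x), r ≠ 0 ∧ r ∈ maximalIdeal _ := by
    by_contra hall
    push Not at hall
    have hbot : maximalIdeal (Y.presheaf.stalk (f x)) = ⊥ :=
      eq_bot_iff.2 fun r hr => (Submodule.mem_bot _).2 (by_contra fun h0 => hall r h0 hr)
    obtain ⟨Q, hQ⟩ : genericPoint Y ∈ Set.range (Y.fromSpecStalk (f x)) := by
      rw [Scheme.range_fromSpecStalk]
      exact (genericPoint_spec Y).specializes trivial
    refine hne (Scheme.fromSpecStalk_closedPoint.symm.trans ((congrArg _ ?_).trans hQ))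
    refine PrimeSpectrum.ext (le_antisymm ?_ (le_maximalIdeal Q.2.ne_top))
    exact hbot.le.trans bot_le
  obtain ⟨v, hv⟩ := (WA.isAssPoint_iff x).1 hx
  have hv0 := WA.ne_zero_of_radical_ann hv
  let _ := (f.stalkMap x).hom.toAlgebra
  have hfl : Module.Flat (Y.presheaf.stalk (f x)) (X.presheaf.stalk x) := Flat.stalkMap f x
  obtain ⟨e⟩ := CurveCoh17.nonempty_stalk_equiv_structureModule x
  obtain ⟨n, hn⟩ : f.stalkMap x r ∈ (WA.annStalk v).radical := by
    rw [hv]
    intro hu
    exact hrm ((isUnit_map_iff (f.stalkMap x).hom r).1 hu)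
  rw [WA.mem_annStalk, ← map_pow] at hn
  refine hv0 (e.injective (funext fun i => ?_))
  have h1 : f.stalkMap x (r ^ n) * e v i = 0 := by
    have h2 := congrArg (fun w => e w i) hn
    simpa [map_smul] using h2
  rw [map_zero, Pi.zero_apply]
  exact (IsRegular.of_ne_zero (pow_ne_zero n hr0)).isSMulRegular.right_eq_zero_of_smul h1

end Groth.Agent.Flat14

namespace Groth.Agent.Flat14

variable {X Y : Scheme.{u}}

/-- Elements of a domain local ring become units at generizations of dimension zero. -/
theorem isUnit_specializes {y e : Y} (h : e ⤳ y) [IsDomain (Y.presheaf.stalk y)]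
    (he : ringKrullDim (Y.presheaf.stalk e) = 0) {r : Y.presheaf.stalk y} (hr : r ≠ 0) :
    IsUnit (Y.presheaf.stalkSpecializes h r) := by
  by_contra hu
  have : Ring.KrullDimLE 0 (Y.presheaf.stalk e) := (Ring.krullDimLE_iff).2 he.le
  let Q : Spec (Y.presheaf.stalk y) := Spec.map (Y.presheaf.stalkSpecializes h) (closedPoint _)
  let B : Spec (Y.presheaf.stalk y) := ⟨⊥, Ideal.isPrime_bot⟩
  have hQ : Y.fromSpecStalk y Q = e := by
    rw [← Scheme.Hom.comp_apply, Scheme.SpecMap_stalkSpecializes_fromSpecStalk, Scheme.fromSpecStalk_closedPoint]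
  have hB : Y.fromSpecStalk y B ⤳ e :=
    (((PrimeSpectrum.le_iff_specializes B Q).1 bot_le).map (Y.fromSpecStalk y).continuous).trans
      (specializes_of_eq hQ)
  obtain ⟨R, hR⟩ : Y.fromSpecStalk y B ∈ Set.range (Y.fromSpecStalk e) := by
    rw [Scheme.range_fromSpecStalk]; exact hB
  have hRm : R = closedPoint (Y.presheaf.stalk e) :=
    PrimeSpectrum.ext (IsLocalRing.eq_maximalIdeal (Ideal.IsPrime.isMaximal' R.2))
  rw [hRm, Scheme.fromSpecStalk_closedPoint] at hR
  have hQB : Q = B := (Y.fromSpecStalk y).isEmbedding.injective (hQ.trans hR)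
  exact hr ((Submodule.mem_bot _).1 ((congrArg PrimeSpectrum.asIdeal hQB).le hu))

/-- Flatness when associated points lie over points of dimension zero. -/
theorem flat_of_assPoints_dim_zero [IsLocallyNoetherian X] (f : X ⟶ Y)
    (hreg : ∀ y : Y, IsRegularLocalRing (Y.presheaf.stalk y))
    (hdim : ∀ y : Y, ringKrullDim (Y.presheaf.stalk y) ≤ 1)
    (hass : ∀ x : X, Curv2.IsAssPoint (Coh.structureModule X) x →
      ringKrullDim (Y.presheaf.stalk (f x)) = 0) : Flat f := by
  refine (Flat.iff_flat_stalkMap f).2 fun x => ?_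
  have := hreg (f x)
  have := RegLoc.isDomain (Y.presheaf.stalk (f x))
  have hp : (maximalIdeal (Y.presheaf.stalk (f x))).IsPrincipal := by
    have h1 : ((maximalIdeal (Y.presheaf.stalk (f x))).spanFinrank : WithBot ℕ∞) ≤ 1 := by
      rw [IsRegularLocalRing.spanFinrank_maximalIdeal]
      exact hdim (f x)
    have h1' : (maximalIdeal (Y.presheaf.stalk (f x))).spanFinrank ≤ 1 := by exact_mod_cast h1
    rcases Nat.le_one_iff_eq_zero_or_eq_one.1 h1' with h | h
    · rw [(Submodule.spanFinrank_eq_zero_iff_eq_bot (IsNoetherian.noetherian _)).1 h]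
      exact bot_isPrincipal
    · exact ((Submodule.spanFinrank_eq_one_iff _).1 h).1
  have e : (maximalIdeal (Y.presheaf.stalk (f x))).IsPrincipal ↔ IsPrincipalIdealRing (Y.presheaf.stalk (f x)) :=
    (tfae_of_isNoetherianRing_of_isLocalRing_of_isDomain (Y.presheaf.stalk (f x))).out 4 0
  have := e.1 hp
  let _ := (f.stalkMap x).hom.toAlgebra
  show Module.Flat (Y.presheaf.stalk (f x)) (X.presheaf.stalk x)
  rw [Module.Flat.flat_iff_torsion_eq_bot_of_isBezout, eq_bot_iff]
  rintro z ⟨⟨r, hr⟩, hrz⟩
  refine (Submodule.mem_bot _).2 ?_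
  by_contra hz
  have hrz : f.stalkMap x r * z = 0 := hrz
  obtain ⟨U, hxU, t, rfl⟩ := X.presheaf.exists_germ_eq z
  obtain ⟨V, hV, hxV, hVU⟩ := exists_isAffineOpen_mem_and_subset (X := X) (x := x) (U := U) hxU
  have hVU : V ≤ U := hVU
  rw [← X.presheaf.germ_res_apply (homOfLE hVU) x hxV] at hz hrz
  set t' := X.presheaf.map (homOfLE hVU).op t
  have : Coh.IsQCoh (Coh.structureModule X) := M1.isQCoh_structureModule X
  obtain ⟨y, hy, hyx, hass', hne⟩ := WA.exists_weakAss (F := Coh.structureModule X) hV hxV t'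
    (fun h0 => hz ((germ_structure_eq_zero_iff hxV t').1 h0))
  refine hne ((germ_structure_eq_zero_iff hy t').2 ?_)
  have hunit := isUnit_specializes (hyx.map f.continuous) (hass y ((WA.isAssPoint_iff y).2 hass'))
    (nonZeroDivisors.ne_zero hr)
  have h0 := congrArg (X.presheaf.stalkSpecializes hyx) hrz
  rw [map_mul, map_zero, ← f.stalkSpecializes_stalkMap_apply y x hyx,
    TopCat.Presheaf.germ_stalkSpecializes_apply] at h0
  exact (hunit.map (f.stalkMap y).hom).mul_right_eq_zero.1 h0

end Groth.Agent.Flat14
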