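import Mathlib.AlgebraicGeometry.Morphisms.Immersion
import Mathlib.AlgebraicGeometry.Morphisms.Separated

/-!
# Separated morphisms which are immersions on the members of a dense open cover
-/

set_option backward.isDefEq.respectTransparency.types false

universe u

open CategoryTheory AlgebraicGeometry TopologicalSpace

namespace Groth.Agent.Flat14

variable {X Y : Scheme.{u}} (f : X ⟶ Y) [IsSeparated f]

/-- A dense open which is closed over an open of the base is the whole preimage. -/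
theorem restrict_of_dense {P : MorphismProperty Scheme.{u}} [P.RespectsIso] (U : X.Opens)
    (hd : Dense (U : Set X)) (V : Y.Opens) (hle : U ≤ f ⁻¹ᵁ V)
    [IsClosedImmersion (f.resLE V U hle)] (hP : P (f.resLE V U hle)) :
    U = f ⁻¹ᵁ V ∧ P (f ∣_ V) := by
  haveI : IsClosedImmersion (X.homOfLE hle ≫ f ∣_ V) :=
    inferInstanceAs (IsClosedImmersion (f.resLE V U hle))
  haveI := IsClosedImmersion.of_comp (X.homOfLE hle) (f ∣_ V)
  have hrange : Set.range (X.homOfLE hle) = (f ⁻¹ᵁ V).ι ⁻¹' (U : Set X) := by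
    ext z
    constructor
    · rintro ⟨w, rfl⟩
      show (f ⁻¹ᵁ V).ι (X.homOfLE hle w) ∈ U
      rw [← Scheme.Hom.comp_apply, Scheme.homOfLE_ι]
      exact w.2
    · intro hz
      refine ⟨⟨_, hz⟩, (f ⁻¹ᵁ V).ι.isOpenEmbedding.injective ?_⟩
      rw [← Scheme.Hom.comp_apply, Scheme.homOfLE_ι]
      rfl
  have hsurj : Function.Surjective (X.homOfLE hle) := by
    rw [← Set.range_eq_univ, ← (X.homOfLE hle).isClosedEmbedding.isClosed_range.closure_eq, hrange]
    exact (hd.preimage (f ⁻¹ᵁ V).ι.isOpenEmbedding.isOpenMap).closure_eq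
  have heq : U = f ⁻¹ᵁ V := le_antisymm hle fun x hx => by
    have hm : (⟨x, hx⟩ : (f ⁻¹ᵁ V).toScheme) ∈ Set.range (X.homOfLE hle) := hsurj _
    rw [hrange] at hm
    exact hm
  subst heq
  refine ⟨rfl, ?_⟩
  have : f.resLE V (f ⁻¹ᵁ V) hle = f ∣_ V := by
    rw [Scheme.Hom.resLE, Scheme.homOfLE_rfl, Category.id_comp]
  rwa [this] at hP

/-- Gluing over opens of the base whose preimages cover. -/
theorem of_restrict_cover {P : MorphismProperty Scheme.{u}} [IsZariskiLocalAtTarget P]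
    [P.IsStableUnderComposition] (hι : ∀ {A B : Scheme.{u}} (g : A ⟶ B) [IsOpenImmersion g], P g)
    {ι : Type u} (V : ι → Y.Opens) (hV : ⨆ i, f ⁻¹ᵁ V i = ⊤) (h : ∀ i, P (f ∣_ V i)) : P f := by
  let W := ⨆ i, V i
  have hW : f ⁻¹ᵁ W = ⊤ := by rw [Scheme.Hom.preimage_iSup, hV]
  have hfW : P (f ∣_ W) := by
    refine (IsZariskiLocalAtTarget.iff_of_iSup_eq_top (P := P) (fun i => W.ι ⁻¹ᵁ V i) ?_).2 fun i => ?_
    · rw [← Scheme.Hom.preimage_iSup]
      exact Scheme.Opens.ι_preimage_self _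
    · refine (P.arrow_mk_iso_iff (morphismRestrictRestrict f W _)).2 ?_
      have : W.ι ''ᵁ (W.ι ⁻¹ᵁ V i) = V i := by
        rw [Scheme.Hom.image_preimage_eq_opensRange_inf, Scheme.Opens.opensRange_ι]
        exact inf_eq_right.2 (le_iSup V i)
      rw [this]
      exact h i
  have hiso : IsIso (f ⁻¹ᵁ W).ι := by
    rw [hW]
    exact inferInstanceAs (IsIso X.topIso.hom)
  have : f = inv (f ⁻¹ᵁ W).ι ≫ (f ∣_ W) ≫ W.ι := by
    rw [morphismRestrict_ι, IsIso.inv_hom_id_assoc]
  rw [this]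
  exact P.comp_mem _ _ (hι _) (P.comp_mem _ _ hfW (hι _))

theorem isOpenImmersion_of_dense_cover {ι : Type u} (U : ι → X.Opens) (hU : ⨆ i, U i = ⊤)
    (hd : ∀ i, Dense (U i : Set X)) (h : ∀ i, IsOpenImmersion ((U i).ι ≫ f)) : IsOpenImmersion f := by
  let V : ι → Y.Opens := fun i => haveI := h i; ((U i).ι ≫ f).opensRange
  have hle : ∀ i, U i ≤ f ⁻¹ᵁ V i := fun i x hx => ⟨⟨x, hx⟩, rfl⟩
  have key : ∀ i, U i = f ⁻¹ᵁ V i ∧ IsOpenImmersion (f ∣_ V i) := fun i => by
    haveI := h i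
    haveI : IsOpenImmersion (f.resLE (V i) (U i) (hle i) ≫ (V i).ι) := by
      rw [Scheme.Hom.resLE_comp_ι]; exact h i
    haveI := IsOpenImmersion.of_comp (f.resLE (V i) (U i) (hle i)) (V i).ι
    haveI : Surjective (f.resLE (V i) (U i) (hle i)) := ⟨fun v => by
      obtain ⟨w, hw⟩ := v.2
      refine ⟨w, Subtype.ext ?_⟩
      rw [← hw]
      exact congr($(Scheme.Hom.resLE_comp_ι f (hle i)) w)⟩
    haveI : IsIso (f.resLE (V i) (U i) (hle i)) :=
      (isIso_iff_isOpenImmersion_and_surjective _).2 ⟨inferInstance, inferInstance⟩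
    exact restrict_of_dense (P := @IsOpenImmersion) f (U i) (hd i) (V i) (hle i) inferInstance
  refine of_restrict_cover (P := @IsOpenImmersion) f (fun g _ => inferInstance) V ?_ fun i => (key i).2
  rw [← hU]
  exact iSup_congr fun i => (key i).1.symm

theorem isImmersion_of_dense_cover {ι : Type u} (U : ι → X.Opens) (hU : ⨆ i, U i = ⊤)
    (hd : ∀ i, Dense (U i : Set X)) (h : ∀ i, IsImmersion ((U i).ι ≫ f)) : IsImmersion f := by
  let V : ι → Y.Opens := fun i => haveI := h i; ((U i).ι ≫ f).coborderRange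
  have hle : ∀ i, U i ≤ f ⁻¹ᵁ V i := fun i x hx => by
    haveI := h i
    exact subset_coborder ⟨⟨x, hx⟩, rfl⟩
  have key : ∀ i, U i = f ⁻¹ᵁ V i ∧ IsImmersion (f ∣_ V i) := fun i => by
    haveI := h i
    have he : f.resLE (V i) (U i) (hle i) = ((U i).ι ≫ f).liftCoborder := by
      rw [← cancel_mono (V i).ι, Scheme.Hom.resLE_comp_ι]
      exact (((U i).ι ≫ f).liftCoborder_ι).symm
    haveI : IsClosedImmersion (f.resLE (V i) (U i) (hle i)) := by rw [he]; infer_instance
    exact restrict_of_dense (P := @IsImmersion) f (U i) (hd i) (V i) (hle i) inferInstance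
  refine of_restrict_cover (P := @IsImmersion) f (fun g _ => inferInstance) V ?_ fun i => (key i).2
  rw [← hU]
  exact iSup_congr fun i => (key i).1.symm

end Groth.Agent.Flat14
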