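import Groth.Agent.Lib.CurveCoh17.RegPoint
import Mathlib.AlgebraicGeometry.Morphisms.Flat
import Mathlib.RingTheory.Flat.TorsionFree

/-!
# Flatness over regular integral schemes of dimension at most one
-/

set_option backward.isDefEq.respectTransparency.types false

universe u

open CategoryTheory AlgebraicGeometry IsLocalRing

namespace Groth.Agent.Flat14

variable {X Y : Scheme.{u}} [IsIntegral Y] (f : X ⟶ Y)

theorem flat_of_regular (hreg : ∀ y : Y, IsRegularLocalRing (Y.presheaf.stalk y))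
    (hdim : topologicalKrullDim Y ≤ 1)
    (h : ∀ (x : X) (r : Y.presheaf.stalk (f x)), r ≠ 0 → ∀ z : X.presheaf.stalk x,
      f.stalkMap x r * z = 0 → z = 0) : Flat f := by
  refine (Flat.iff_flat_stalkMap f).2 fun x => ?_
  have := hreg (f x)
  have := CurveCoh17.pid_stalk_of_regular hdim (f x)
  let _ := (f.stalkMap x).hom.toAlgebra
  show Module.Flat (Y.presheaf.stalk (f x)) (X.presheaf.stalk x)
  rw [Module.Flat.flat_iff_torsion_eq_bot_of_isBezout, eq_bot_iff]
  rintro z ⟨⟨r, hr⟩, hrz⟩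
  exact (Submodule.mem_bot _).2 (h x r (nonZeroDivisors.ne_zero hr) z hrz)

/-- A prime of the local ring contracts to zero when its point lies over the generic point. -/
theorem comap_eq_bot (x : X) (P : PrimeSpectrum (X.presheaf.stalk x))
    (hP : f (X.fromSpecStalk x P) = genericPoint Y) :
    P.asIdeal.comap (f.stalkMap x).hom = ⊥ := by
  let Q : Spec (Y.presheaf.stalk (f x)) := Spec.map (f.stalkMap x) P
  let B : Spec (Y.presheaf.stalk (f x)) := ⟨⊥, Ideal.isPrime_bot⟩
  have hQ : Y.fromSpecStalk (f x) Q = genericPoint Y := by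
    rw [← hP, ← Scheme.Hom.comp_apply, ← Scheme.Hom.comp_apply, Scheme.SpecMap_stalkMap_fromSpecStalk]
  have hB : Y.fromSpecStalk (f x) B ⤳ Y.fromSpecStalk (f x) Q :=
    ((PrimeSpectrum.le_iff_specializes B Q).1 bot_le).map (Y.fromSpecStalk (f x)).continuous
  have hBη : Y.fromSpecStalk (f x) B = genericPoint Y :=
    (hB.trans (specializes_of_eq hQ)).antisymm ((genericPoint_spec Y).specializes trivial) |>.eq
  exact congrArg PrimeSpectrum.asIdeal
    ((Y.fromSpecStalk (f x)).isEmbedding.injective (hQ.trans hBη.symm) : Q = B)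

/-- Minimal primes of local rings are generic points of components. -/
theorem fromSpecStalk_minimal (x : X) (P : Ideal (X.presheaf.stalk x)) (hP : P ∈ minimalPrimes (X.presheaf.stalk x))
    (z : X) (hz : z ⤳ X.fromSpecStalk x ⟨P, hP.1.1⟩) : z = X.fromSpecStalk x ⟨P, hP.1.1⟩ := by
  have hx : X.fromSpecStalk x ⟨P, hP.1.1⟩ ⤳ x := by
    have : X.fromSpecStalk x ⟨P, hP.1.1⟩ ∈ Set.range (X.fromSpecStalk x) := ⟨_, rfl⟩
    rwa [Scheme.range_fromSpecStalk] at this
  obtain ⟨Q, rfl⟩ : z ∈ Set.range (X.fromSpecStalk x) := by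
    rw [Scheme.range_fromSpecStalk]; exact hz.trans hx
  have hle : Q.asIdeal ≤ P :=
    (PrimeSpectrum.le_iff_specializes Q ⟨P, hP.1.1⟩).2
      ((X.fromSpecStalk x).isEmbedding.isInducing.specializes_iff.1 hz)
  exact congrArg _ (PrimeSpectrum.ext (le_antisymm hle (hP.2 ⟨Q.2, bot_le⟩ hle)))

end Groth.Agent.Flat14
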