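import Mathlib
import Groth.Agent.Lib.WLocal.WEProd

/-!
# Fibre products of flat algebras along a finite flat map to a quotient
-/

set_option backward.isDefEq.respectTransparency.types false

universe u

open TensorProduct

namespace Groth.Agent.Flat14

variable (R A B : Type u) [CommRing R] [CommRing A] [CommRing B] [Algebra R A] [Algebra R B]
  (I : Ideal A) [Algebra B (A ⧸ I)] [IsScalarTower R B (A ⧸ I)]

/-- The two maps to the quotient. -/
abbrev pullbackAlg : Subalgebra R (B × A) :=
  AlgHom.equalizer ((IsScalarTower.toAlgHom R B (A ⧸ I)).comp (AlgHom.fst R B A))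
    ((Ideal.Quotient.mkₐ R I).comp (AlgHom.snd R B A))

/-- Difference of the two maps. -/
noncomputable def diff : B × A →ₗ[R] A ⧸ I :=
  (IsScalarTower.toAlgHom R B (A ⧸ I)).toLinearMap ∘ₗ LinearMap.fst R B A -
    (Ideal.Quotient.mkₐ R I).toLinearMap ∘ₗ LinearMap.snd R B A

theorem diff_surjective : Function.Surjective (diff R A B I) := fun z => by
  obtain ⟨a, rfl⟩ := Ideal.Quotient.mk_surjective z
  refine ⟨(0, -a), ?_⟩
  show algebraMap B (A ⧸ I) 0 - Ideal.Quotient.mk I (-a) = _
  rw [map_zero, map_neg, zero_sub, neg_neg]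

theorem exact_val_diff :
    Function.Exact (pullbackAlg R A B I).val.toLinearMap (diff R A B I) := fun z => by
  constructor
  · intro h
    exact ⟨⟨z, sub_eq_zero.1 h⟩, rfl⟩
  · rintro ⟨⟨z, hz⟩, rfl⟩
    exact sub_eq_zero.2 hz

theorem flat_pullbackAlg [Module.Flat R A] [Module.Flat R B] [Module.Flat B (A ⧸ I)] :
    Module.Flat R (pullbackAlg R A B I) := by
  have : Module.Flat R (A ⧸ I) := Module.Flat.trans R B (A ⧸ I)
  have : Module.Flat R (B × A) := Groth.Agent.WLocal.flat_prod
  rw [Module.Flat.iff_rTensor_injective']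
  intro J
  have h1 : Function.Injective ((pullbackAlg R A B I).val.toLinearMap.lTensor J) :=
    LinearMap.lTensor_injective_of_exact_of_flat _ (diff_surjective R A B I) _
      Subtype.val_injective (exact_val_diff R A B I) J
  have h2 : Function.Injective (LinearMap.rTensor (B × A) J.subtype) :=
    Module.Flat.rTensor_preserves_injective_linearMap _ J.subtype_injective
  have h3 : ((pullbackAlg R A B I).val.toLinearMap.lTensor R) ∘ₗ
      LinearMap.rTensor (pullbackAlg R A B I) J.subtype =
      LinearMap.rTensor (B × A) J.subtype ∘ₗ (pullbackAlg R A B I).val.toLinearMap.lTensor J := by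
    ext x y; rfl
  refine Function.Injective.of_comp (f := (pullbackAlg R A B I).val.toLinearMap.lTensor R) ?_
  rw [← LinearMap.coe_comp, h3]
  exact h2.comp h1

variable [Module.Finite B (A ⧸ I)] [Module.Flat B (A ⧸ I)]

theorem lTensor_algebraMap_injective (hinj : Function.Injective (algebraMap B (A ⧸ I)))
    (R' : Type u) [AddCommGroup R'] [Module R R'] :
    Function.Injective ((IsScalarTower.toAlgHom R B (A ⧸ I)).toLinearMap.lTensor R') := by
  have : FaithfulSMul B (A ⧸ I) := (faithfulSMul_iff_algebraMap_injective _ _).2 hinj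
  have : Module.FaithfullyFlat B (A ⧸ I) :=
    Module.FaithfullyFlat.of_comap_surjective fun p => by
      obtain ⟨Q, -, hQ, hQp⟩ := Ideal.exists_ideal_over_prime_of_isIntegral p.asIdeal
        (⊥ : Ideal (A ⧸ I)) (by rw [← RingHom.ker_eq_comap_bot, (RingHom.injective_iff_ker_eq_bot _).1 hinj]; exact bot_le)
      exact ⟨⟨Q, hQ⟩, PrimeSpectrum.ext hQp⟩
  rw [LinearMap.lTensor_inj_iff_rTensor_inj]
  have key : (IsScalarTower.toAlgHom R B (A ⧸ I)).toLinearMap.rTensor R' =
      ((AlgebraTensorModule.cancelBaseChange R B B (A ⧸ I) R').toLinearMap.restrictScalars R) ∘ₗ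
        (TensorProduct.mk B (A ⧸ I) (B ⊗[R] R') 1).restrictScalars R := by
    ext b r
    show algebraMap B (A ⧸ I) b ⊗ₜ r = AlgebraTensorModule.cancelBaseChange R B B (A ⧸ I) R' (1 ⊗ₜ (b ⊗ₜ r))
    rw [AlgebraTensorModule.cancelBaseChange_tmul, ← Algebra.algebraMap_eq_smul_one]
  rw [key]
  exact (AlgebraTensorModule.cancelBaseChange R B B (A ⧸ I) R').injective.comp
    (Module.FaithfullyFlat.tensorProduct_mk_injective (B := A ⧸ I) (B ⊗[R] R'))

theorem pullbackAlg_baseChange [Module.Flat R B] (hinj : Function.Injective (algebraMap B (A ⧸ I)))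
    (R' : Type u) [AddCommGroup R'] [Module R R'] :
    Function.Injective ((LinearMap.snd R B A ∘ₗ (pullbackAlg R A B I).val.toLinearMap).lTensor R') ∧
    ∀ (b : R' ⊗[R] B) (a : R' ⊗[R] A),
      (IsScalarTower.toAlgHom R B (A ⧸ I)).toLinearMap.lTensor R' b =
        (Ideal.Quotient.mkₐ R I).toLinearMap.lTensor R' a →
      ∃ x : R' ⊗[R] pullbackAlg R A B I,
        (LinearMap.fst R B A ∘ₗ (pullbackAlg R A B I).val.toLinearMap).lTensor R' x = b ∧
        (LinearMap.snd R B A ∘ₗ (pullbackAlg R A B I).val.toLinearMap).lTensor R' x = a := by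
  have : Module.Flat R (A ⧸ I) := Module.Flat.trans R B (A ⧸ I)
  let v := (pullbackAlg R A B I).val.toLinearMap
  have hvinj : Function.Injective (v.lTensor R') :=
    LinearMap.lTensor_injective_of_exact_of_flat _ (diff_surjective R A B I) _
      Subtype.val_injective (exact_val_diff R A B I) R'
  have hex := lTensor_exact R' (exact_val_diff R A B I) (diff_surjective R A B I)
  let e := TensorProduct.prodRight R R R' B A
  have hfst : ∀ z, (e z).1 = (LinearMap.fst R B A).lTensor R' z := fun z => by
    induction z using TensorProduct.induction_on with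
    | zero => simp
    | add x y hx hy => simp [hx, hy]
    | tmul r p => simp [e]
  have hsnd : ∀ z, (e z).2 = (LinearMap.snd R B A).lTensor R' z := fun z => by
    induction z using TensorProduct.induction_on with
    | zero => simp
    | add x y hx hy => simp [hx, hy]
    | tmul r p => simp [e]
  have hdiff : ∀ z, (diff R A B I).lTensor R' z =
      (IsScalarTower.toAlgHom R B (A ⧸ I)).toLinearMap.lTensor R' (e z).1 -
        (Ideal.Quotient.mkₐ R I).toLinearMap.lTensor R' (e z).2 := fun z => by
    rw [hfst, hsnd, diff, LinearMap.lTensor_sub, LinearMap.sub_apply, LinearMap.lTensor_comp,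
      LinearMap.lTensor_comp, LinearMap.comp_apply, LinearMap.comp_apply]
  constructor
  · rw [injective_iff_map_eq_zero]
    intro x hx
    apply hvinj
    apply e.injective
    have h2 : (e (v.lTensor R' x)).2 = 0 := by
      rw [hsnd, ← LinearMap.comp_apply, ← LinearMap.lTensor_comp]
      exact hx
    have h1 : (e (v.lTensor R' x)).1 = 0 := by
      apply lTensor_algebraMap_injective R A B I hinj R'
      have h0 := (hdiff (v.lTensor R' x)).symm.trans ((hex _).2 ⟨x, rfl⟩)
      rw [h2, map_zero, sub_zero] at h0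
      rw [h0, map_zero]
    rw [map_zero, map_zero]
    exact Prod.ext h1 h2
  · intro b a hab
    obtain ⟨x, hx⟩ := (hex (e.symm (b, a))).1 (by
      rw [hdiff, e.apply_symm_apply, hab, sub_self])
    refine ⟨x, ?_, ?_⟩
    · rw [LinearMap.lTensor_comp, LinearMap.comp_apply, hx, ← hfst, e.apply_symm_apply]
    · rw [LinearMap.lTensor_comp, LinearMap.comp_apply, hx, ← hsnd, e.apply_symm_apply]

end Groth.Agent.Flat14
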